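import Cfsg.Agent.Lib.HeldType.Amalgam.M240.TabN0
import Cfsg.Agent.Lib.HeldType.Amalgam.M240.TabO0
import Cfsg.Agent.Lib.CosetEnum.Defs

/-! Generated model data. -/

set_option autoImplicit false
set_option maxRecDepth 20000

namespace Cfsg.Lib.HeldType.Amalgam.M240

open Cfsg.Lib.CosetEnum

/-- The permutations. -/
def perms : List Nat := [845847050575376633787430494841324712, 675510824339662663787714786970749995, 638673356008897168994219352572074101, 553267861185296412301284065685423630, 236413809614727289283139585525133952, 845805742221340624849179380498353256, 422586921505058061264921734000357645, 339417491376059076776662849862781475]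

/-- The standard generators as words. -/
def genWords : List (List Nat) := [
    [0, 6, 3, 2, 6, 3, 5, 6, 0, 7, 4, 2, 0],
    [2, 5, 4, 1, 7, 6, 7, 1, 4, 5, 2],
    [6, 7, 0, 4, 7, 3, 2, 0, 6, 7, 3]]

/-- The families with their tree. -/
def fams : Tab :=
  (.node 896 (.node 448 (.node 192 (.node 64 tabN_0 (.node 64 tabN_1 tabN_2)) (.node 128 (.node 64 tabN_3 tabN_4) (.node 64 tabN_5 tabN_6))) (.node 192 (.node 64 tabN_7 (.node 64 tabN_8 tabN_9)) (.node 128 (.node 64 tabN_10 tabN_11) (.node 64 tabN_12 tabN_13)))) (.node 448 (.node 192 (.node 64 tabN_14 (.node 64 tabN_15 tabN_16)) (.node 128 (.node 64 tabN_17 tabN_18) (.node 64 tabN_19 tabN_20))) (.node 192 (.node 64 tabN_21 (.node 64 tabN_22 tabN_23)) (.node 128 (.node 64 tabN_24 tabN_25) (.node 64 tabN_26 tabN_27)))))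

/-- The order of their keys. -/
def order : Tab :=
  tabO_0

end Cfsg.Lib.HeldType.Amalgam.M240
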