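import Cfsg.Agent.Lib.HeldType.Amalgam.M240.Cert

/-! Generated checks. -/

set_option autoImplicit false
set_option maxRecDepth 20000

namespace Cfsg.Lib.HeldType.Amalgam.M240

open Cfsg.Lib.CosetEnum

theorem steps_4 : stepsOK relWords subWords tabF tabC 2078 1054 6000 = true := by decide +kernel

theorem closed_0 : closedOK tabF tabZ tabP 9132 1771 8 [0, 1, 2, 3, 4, 5, 6, 7] 1200 0 = true := by decide +kernel

theorem closed_1 : closedOK tabF tabZ tabP 9132 1771 8 [0, 1, 2, 3, 4, 5, 6, 7] 571 1200 = true := by decide +kernel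

end Cfsg.Lib.HeldType.Amalgam.M240
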