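import Cfsg.Agent.Lib.HeldType.Amalgam.M24Model
import Cfsg.Agent.Lib.HeldType.Amalgam.M240.ModelData
import Cfsg.Agent.Lib.HeldType.Amalgam.M240.Valid

/-! Generated checks. -/

set_option autoImplicit false
set_option maxRecDepth 20000

namespace Cfsg.Lib.HeldType.Amalgam.M240

open Cfsg.Lib.CosetEnum

theorem order_1 : orderOK fams order 1771 600 600 = true := by decide +kernel

end Cfsg.Lib.HeldType.Amalgam.M240
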