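import Cfsg.Agent.Lib.HeldType.Amalgam.M240.Model_edges0
import Cfsg.Agent.Lib.HeldType.Amalgam.M240.Model_edges1
import Cfsg.Agent.Lib.HeldType.Amalgam.M240.Model_edges2
import Cfsg.Agent.Lib.HeldType.Amalgam.M240.Model_order0
import Cfsg.Agent.Lib.HeldType.Amalgam.M240.Model_order1
import Cfsg.Agent.Lib.HeldType.Amalgam.M240.Model_order2

/-! Generated checks: assembled. -/

set_option autoImplicit false
set_option maxRecDepth 20000

namespace Cfsg.Lib.HeldType.Amalgam.M240

open Cfsg.Lib.CosetEnum

theorem perms_ok : permsOK perms relators genWords = true := by decide +kernel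

theorem root_ok : rootOK perms subM24 fams = true := by decide +kernel

theorem edges_ok : edgesOK perms fams (cert.n - 1) 0 = true :=
  (edgesOK_append (a := 600) (b := 1170) edges_0 (edgesOK_append (a := 600) (b := 570) edges_1 edges_2))

theorem order_ok : orderOK fams order cert.n cert.n 0 = true :=
  (orderOK_append (a := 600) (b := 1171) order_0 (orderOK_append (a := 600) (b := 571) order_1 order_2))

end Cfsg.Lib.HeldType.Amalgam.M240
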