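import Cfsg.Agent.Lib.HeldType.Amalgam.M240.TabF0
import Cfsg.Agent.Lib.HeldType.Amalgam.M240.TabC0
import Cfsg.Agent.Lib.HeldType.Amalgam.M240.TabZ0
import Cfsg.Agent.Lib.HeldType.Amalgam.M240.TabP0
import Cfsg.Agent.Lib.CosetEnum.Defs

/-! Generated certificate. -/

set_option autoImplicit false
set_option maxRecDepth 20000

namespace Cfsg.Lib.HeldType.Amalgam.M240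

open Cfsg.Lib.CosetEnum

/-- Table. -/
def tabF : Tab :=
  (.node 64 tabF_0 (.node 64 tabF_1 tabF_2))

/-- Table. -/
def tabC : Tab :=
  (.node 3520 (.node 1728 (.node 832 (.node 384 (.node 192 (.node 64 tabC_0 (.node 64 tabC_1 tabC_2)) (.node 64 tabC_3 (.node 64 tabC_4 tabC_5))) (.node 192 (.node 64 tabC_6 (.node 64 tabC_7 tabC_8)) (.node 128 (.node 64 tabC_9 tabC_10) (.node 64 tabC_11 tabC_12)))) (.node 448 (.node 192 (.node 64 tabC_13 (.node 64 tabC_14 tabC_15)) (.node 128 (.node 64 tabC_16 tabC_17) (.node 64 tabC_18 tabC_19))) (.node 192 (.node 64 tabC_20 (.node 64 tabC_21 tabC_22)) (.node 128 (.node 64 tabC_23 tabC_24) (.node 64 tabC_25 tabC_26))))) (.node 896 (.node 448 (.node 192 (.node 64 tabC_27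 (.node 64 tabC_28 tabC_29)) (.node 128 (.node 64 tabC_30 tabC_31) (.node 64 tabC_32 tabC_33))) (.node 192 (.node 64 tabC_34 (.node 64 tabC_35 tabC_36)) (.node 128 (.node 64 tabC_37 tabC_38) (.node 64 tabC_39 tabC_40)))) (.node 448 (.node 192 (.node 64 tabC_41 (.node 64 tabC_42 tabC_43)) (.node 128 (.node 64 tabC_44 tabC_45) (.node 64 tabC_46 tabC_47))) (.node 192 (.node 64 tabC_48 (.node 64 tabC_49 tabC_50)) (.node 128 (.node 64 tabC_51 tabC_52) (.node 64 tabC_53 tabC_54)))))) (.node 1792 (.node 896 (.node 448 (.node 192 (.node 64 tabC_55 (.node 64 tabC_56 tabC_57)) (.node 128 (.node 64 tabC_58 tabC_59) (.node 64 tabC_60 tabC_61))) (.node 192 (.node 64 tabC_62 (.node 64 tabC_63 tabC_64)) (.node 128 (.node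 64 tabC_65 tabC_66) (.node 64 tabC_67 tabC_68)))) (.node 448 (.node 192 (.node 64 tabC_69 (.node 64 tabC_70 tabC_71)) (.node 128 (.node 64 tabC_72 tabC_73) (.node 64 tabC_74 tabC_75))) (.node 192 (.node 64 tabC_76 (.node 64 tabC_77 tabC_78)) (.node 128 (.node 64 tabC_79 tabC_80) (.node 64 tabC_81 tabC_82))))) (.node 896 (.node 448 (.node 192 (.node 64 tabC_83 (.node 64 tabC_84 tabC_85)) (.node 128 (.node 64 tabC_86 tabC_87) (.node 64 tabC_88 tabC_89))) (.node 192 (.node 64 tabC_90 (.node 64 tabC_91 tabC_92)) (.node 128 (.node 64 tabC_93 tabC_94) (.node 64 tabC_95 tabC_96)))) (.node 448 (.node 192 (.node 64 tabC_97 (.node 64 tabC_98 tabC_99)) (.node 128 (.node 64 tabC_100 tabC_101) (.node 64 tabC_102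 tabC_103))) (.node 192 (.node 64 tabC_104 (.node 64 tabC_105 tabC_106)) (.node 128 (.node 64 tabC_107 tabC_108) (.node 64 tabC_109 tabC_110)))))))

/-- Table. -/
def tabZ : Tab :=
  (.node 128 (.node 64 tabZ_0 tabZ_1) (.node 64 tabZ_2 tabZ_3))

/-- Table. -/
def tabP : Tab :=
  (.node 128 (.node 64 tabP_0 tabP_1) (.node 64 tabP_2 tabP_3))

/-- The shifts in use. -/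
def relWords : List (List Nat) := [
    [2, 3, 1, 2, 3, 1],
    [2, 1, 3, 2, 1, 3],
    [3, 1, 2, 3, 1, 2],
    [3, 2, 1, 3, 2, 1],
    [1, 2, 3, 1, 2, 3],
    [1, 3, 2, 1, 3, 2],
    [3, 0, 5, 2, 5, 0],
    [0, 5, 2, 5, 0, 3],
    [0, 3, 0, 5, 2, 5],
    [5, 2, 5, 0, 3, 0],
    [5, 0, 3, 0, 5, 2],
    [2, 5, 0, 3, 0, 5],
    [3, 4, 3, 2, 4, 2],
    [3, 2, 4, 2, 3, 4],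
    [4, 3, 2, 4, 2, 3],
    [2, 4, 2, 3, 4, 3],
    [2, 3, 4, 3, 2, 4],
    [4, 2, 3, 4, 3, 2],
    [5, 0, 5, 0, 5, 0],
    [0, 5, 0, 5, 0, 5],
    [7, 3, 7, 3, 7, 3],
    [3, 7, 3, 7, 3, 7],
    [0, 3, 0, 3, 7, 1, 7],
    [0, 7, 1, 7, 3, 0, 3],
    [3, 0, 3, 7, 1, 7, 0],
    [3, 0, 7, 1, 7, 3, 0],
    [0, 3, 7, 1, 7, 0, 3],
    [0, 3, 0, 7, 1, 7, 3],
    [3, 7, 1, 7, 0, 3, 0],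
    [3, 0, 3, 0, 7, 1, 7],
    [7, 1, 7, 0, 3, 0, 3],
    [7, 3, 0, 3, 0, 7, 1],
    [1, 7, 0, 3, 0, 3, 7],
    [1, 7, 3, 0, 3, 0, 7],
    [7, 0, 3, 0, 3, 7, 1],
    [7, 1, 7, 3, 0, 3, 0],
    [1, 0, 1, 0, 1, 0, 1, 0],
    [0, 1, 0, 1, 0, 1, 0, 1],
    [2, 0, 2, 0, 2, 0, 2, 0],
    [0, 2, 0, 2, 0, 2, 0, 2],
    [2, 0, 3, 0, 2, 0, 3, 0],
    [0, 3, 0, 2, 0, 3, 0, 2],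
    [0, 2, 0, 3, 0, 2, 0, 3],
    [3, 0, 2, 0, 3, 0, 2, 0],
    [2, 1, 2, 1, 2, 1, 2, 1],
    [1, 2, 1, 2, 1, 2, 1, 2],
    [2, 1, 4, 1, 2, 1, 4, 1],
    [1, 4, 1, 2, 1, 4, 1, 2],
    [1, 2, 1, 4, 1, 2, 1, 4],
    [4, 1, 2, 1, 4, 1, 2, 1],
    [2, 3, 4, 0, 4, 2, 3, 0],
    [2, 0, 3, 2, 4, 0, 4, 3],
    [3, 4, 0, 4, 2, 3, 0, 2],
    [3, 2, 0, 3, 2, 4, 0, 4],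
    [4, 0, 4, 2, 3, 0, 2, 3],
    [4, 3, 2, 0, 3, 2, 4, 0],
    [0, 4, 2, 3, 0, 2, 3, 4],
    [0, 4, 3, 2, 0, 3, 2, 4],
    [4, 2, 3, 0, 2, 3, 4, 0],
    [4, 0, 4, 3, 2, 0, 3, 2],
    [2, 3, 0, 2, 3, 4, 0, 4],
    [2, 4, 0, 4, 3, 2, 0, 3],
    [3, 0, 2, 3, 4, 0, 4, 2],
    [3, 2, 4, 0, 4, 3, 2, 0],
    [0, 2, 3, 4, 0, 4, 2, 3],
    [0, 3, 2, 4, 0, 4, 3, 2],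
    [2, 3, 5, 1, 2, 3, 5, 1],
    [2, 1, 5, 3, 2, 1, 5, 3],
    [3, 5, 1, 2, 3, 5, 1, 2],
    [3, 2, 1, 5, 3, 2, 1, 5],
    [5, 1, 2, 3, 5, 1, 2, 3],
    [5, 3, 2, 1, 5, 3, 2, 1],
    [1, 2, 3, 5, 1, 2, 3, 5],
    [1, 5, 3, 2, 1, 5, 3, 2],
    [2, 4, 3, 0, 3, 4, 2, 0],
    [2, 0, 2, 4, 3, 0, 3, 4],
    [4, 3, 0, 3, 4, 2, 0, 2],
    [4, 2, 0, 2, 4, 3, 0, 3],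
    [3, 0, 3, 4, 2, 0, 2, 4],
    [3, 4, 2, 0, 2, 4, 3, 0],
    [0, 3, 4, 2, 0, 2, 4, 3],
    [0, 2, 4, 3, 0, 3, 4, 2],
    [2, 5, 2, 1, 3, 5, 3, 1],
    [2, 1, 3, 5, 3, 1, 2, 5],
    [5, 2, 1, 3, 5, 3, 1, 2],
    [1, 3, 5, 3, 1, 2, 5, 2],
    [1, 2, 5, 2, 1, 3, 5, 3],
    [3, 5, 3, 1, 2, 5, 2, 1],
    [3, 1, 2, 5, 2, 1, 3, 5],
    [5, 3, 1, 2, 5, 2, 1, 3],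
    [3, 0, 3, 0, 3, 0, 3, 0],
    [0, 3, 0, 3, 0, 3, 0, 3],
    [3, 1, 5, 1, 3, 2, 5, 2],
    [3, 2, 5, 2, 3, 1, 5, 1],
    [1, 5, 1, 3, 2, 5, 2, 3],
    [1, 3, 2, 5, 2, 3, 1, 5],
    [5, 1, 3, 2, 5, 2, 3, 1],
    [2, 5, 2, 3, 1, 5, 1, 3],
    [2, 3, 1, 5, 1, 3, 2, 5],
    [5, 2, 3, 1, 5, 1, 3, 2],
    [4, 1, 4, 3, 4, 1, 4, 3],
    [4, 3, 4, 1, 4, 3, 4, 1],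
    [1, 4, 3, 4, 1, 4, 3, 4],
    [3, 4, 1, 4, 3, 4, 1, 4],
    [4, 2, 4, 2, 4, 2, 4, 2],
    [2, 4, 2, 4, 2, 4, 2, 4],
    [4, 5, 4, 2, 4, 5, 4, 2],
    [4, 2, 4, 5, 4, 2, 4, 5],
    [5, 4, 2, 4, 5, 4, 2, 4],
    [2, 4, 5, 4, 2, 4, 5, 4],
    [5, 4, 5, 4, 5, 4, 5, 4],
    [4, 5, 4, 5, 4, 5, 4, 5],
    [1, 4, 1, 6, 3, 0, 6, 0],
    [1, 0, 6, 0, 3, 6, 1, 4],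
    [4, 1, 6, 3, 0, 6, 0, 1],
    [4, 1, 0, 6, 0, 3, 6, 1],
    [1, 6, 3, 0, 6, 0, 1, 4],
    [1, 4, 1, 0, 6, 0, 3, 6],
    [6, 3, 0, 6, 0, 1, 4, 1],
    [6, 1, 4, 1, 0, 6, 0, 3],
    [3, 0, 6, 0, 1, 4, 1, 6],
    [3, 6, 1, 4, 1, 0, 6, 0],
    [0, 6, 0, 1, 4, 1, 6, 3],
    [0, 3, 6, 1, 4, 1, 0, 6],
    [6, 0, 1, 4, 1, 6, 3, 0],
    [6, 0, 3, 6, 1, 4, 1, 0],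
    [0, 1, 4, 1, 6, 3, 0, 6],
    [0, 6, 0, 3, 6, 1, 4, 1],
    [6, 0, 6, 0, 6, 0, 6, 0],
    [0, 6, 0, 6, 0, 6, 0, 6],
    [6, 0, 6, 1, 6, 0, 6, 1],
    [6, 1, 6, 0, 6, 1, 6, 0],
    [0, 6, 1, 6, 0, 6, 1, 6],
    [1, 6, 0, 6, 1, 6, 0, 6],
    [3, 1, 3, 1, 3, 1, 3, 1],
    [1, 3, 1, 3, 1, 3, 1, 3],
    [0, 1, 2, 1, 4, 3, 0, 4, 2],
    [0, 2, 4, 0, 3, 4, 1, 2, 1],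
    [1, 2, 1, 4, 3, 0, 4, 2, 0],
    [1, 0, 2, 4, 0, 3, 4, 1, 2],
    [2, 1, 4, 3, 0, 4, 2, 0, 1],
    [2, 1, 0, 2, 4, 0, 3, 4, 1],
    [1, 4, 3, 0, 4, 2, 0, 1, 2],
    [1, 2, 1, 0, 2, 4, 0, 3, 4],
    [4, 3, 0, 4, 2, 0, 1, 2, 1],
    [4, 1, 2, 1, 0, 2, 4, 0, 3],
    [3, 0, 4, 2, 0, 1, 2, 1, 4],
    [3, 4, 1, 2, 1, 0, 2, 4, 0],
    [0, 4, 2, 0, 1, 2, 1, 4, 3],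
    [0, 3, 4, 1, 2, 1, 0, 2, 4],
    [4, 2, 0, 1, 2, 1, 4, 3, 0],
    [4, 0, 3, 4, 1, 2, 1, 0, 2],
    [2, 0, 1, 2, 1, 4, 3, 0, 4],
    [2, 4, 0, 3, 4, 1, 2, 1, 0],
    [1, 2, 4, 1, 4, 1, 2, 4, 3],
    [1, 3, 4, 2, 1, 4, 1, 4, 2],
    [2, 4, 1, 4, 1, 2, 4, 3, 1],
    [2, 1, 3, 4, 2, 1, 4, 1, 4],
    [4, 1, 4, 1, 2, 4, 3, 1, 2],
    [4, 2, 1, 3, 4, 2, 1, 4, 1],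
    [1, 4, 1, 2, 4, 3, 1, 2, 4],
    [1, 4, 2, 1, 3, 4, 2, 1, 4],
    [4, 1, 2, 4, 3, 1, 2, 4, 1],
    [4, 1, 4, 2, 1, 3, 4, 2, 1],
    [1, 2, 4, 3, 1, 2, 4, 1, 4],
    [1, 4, 1, 4, 2, 1, 3, 4, 2],
    [2, 4, 3, 1, 2, 4, 1, 4, 1],
    [2, 1, 4, 1, 4, 2, 1, 3, 4],
    [4, 3, 1, 2, 4, 1, 4, 1, 2],
    [4, 2, 1, 4, 1, 4, 2, 1, 3],
    [3, 1, 2, 4, 1, 4, 1, 2, 4],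
    [3, 4, 2, 1, 4, 1, 4, 2, 1],
    [0, 1, 0, 1, 7, 2, 1, 2, 7],
    [0, 7, 2, 1, 2, 7, 1, 0, 1],
    [1, 0, 1, 7, 2, 1, 2, 7, 0],
    [1, 0, 7, 2, 1, 2, 7, 1, 0],
    [0, 1, 7, 2, 1, 2, 7, 0, 1],
    [0, 1, 0, 7, 2, 1, 2, 7, 1],
    [1, 7, 2, 1, 2, 7, 0, 1, 0],
    [1, 0, 1, 0, 7, 2, 1, 2, 7],
    [7, 2, 1, 2, 7, 0, 1, 0, 1],
    [7, 1, 0, 1, 0, 7, 2, 1, 2],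
    [2, 1, 2, 7, 0, 1, 0, 1, 7],
    [2, 7, 1, 0, 1, 0, 7, 2, 1],
    [1, 2, 7, 0, 1, 0, 1, 7, 2],
    [1, 2, 7, 1, 0, 1, 0, 7, 2],
    [2, 7, 0, 1, 0, 1, 7, 2, 1],
    [2, 1, 2, 7, 1, 0, 1, 0, 7],
    [7, 0, 1, 0, 1, 7, 2, 1, 2],
    [7, 2, 1, 2, 7, 1, 0, 1, 0],
    [1, 0, 2, 0, 5, 1, 5, 0, 2, 0],
    [0, 2, 0, 5, 1, 5, 0, 2, 0, 1],
    [0, 1, 0, 2, 0, 5, 1, 5, 0, 2],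
    [2, 0, 5, 1, 5, 0, 2, 0, 1, 0],
    [2, 0, 1, 0, 2, 0, 5, 1, 5, 0],
    [0, 5, 1, 5, 0, 2, 0, 1, 0, 2],
    [0, 2, 0, 1, 0, 2, 0, 5, 1, 5],
    [5, 1, 5, 0, 2, 0, 1, 0, 2, 0],
    [5, 0, 2, 0, 1, 0, 2, 0, 5, 1],
    [1, 5, 0, 2, 0, 1, 0, 2, 0, 5],
    [2, 0, 5, 4, 5, 3, 5, 4, 5, 0],
    [0, 5, 4, 5, 3, 5, 4, 5, 0, 2],
    [0, 2, 0, 5, 4, 5, 3, 5, 4, 5],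
    [5, 4, 5, 3, 5, 4, 5, 0, 2, 0],
    [5, 0, 2, 0, 5, 4, 5, 3, 5, 4],
    [4, 5, 3, 5, 4, 5, 0, 2, 0, 5],
    [4, 5, 0, 2, 0, 5, 4, 5, 3, 5],
    [5, 3, 5, 4, 5, 0, 2, 0, 5, 4],
    [5, 4, 5, 0, 2, 0, 5, 4, 5, 3],
    [3, 5, 4, 5, 0, 2, 0, 5, 4, 5],
    [1, 3, 0, 3, 4, 6, 3, 6, 4, 0],
    [1, 0, 4, 6, 3, 6, 4, 3, 0, 3],
    [3, 0, 3, 4, 6, 3, 6, 4, 0, 1],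
    [3, 1, 0, 4, 6, 3, 6, 4, 3, 0],
    [0, 3, 4, 6, 3, 6, 4, 0, 1, 3],
    [0, 3, 1, 0, 4, 6, 3, 6, 4, 3],
    [3, 4, 6, 3, 6, 4, 0, 1, 3, 0],
    [3, 0, 3, 1, 0, 4, 6, 3, 6, 4],
    [4, 6, 3, 6, 4, 0, 1, 3, 0, 3],
    [4, 3, 0, 3, 1, 0, 4, 6, 3, 6],
    [6, 3, 6, 4, 0, 1, 3, 0, 3, 4],
    [6, 4, 3, 0, 3, 1, 0, 4, 6, 3],
    [3, 6, 4, 0, 1, 3, 0, 3, 4, 6],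
    [3, 6, 4, 3, 0, 3, 1, 0, 4, 6],
    [6, 4, 0, 1, 3, 0, 3, 4, 6, 3],
    [6, 3, 6, 4, 3, 0, 3, 1, 0, 4],
    [4, 0, 1, 3, 0, 3, 4, 6, 3, 6],
    [4, 6, 3, 6, 4, 3, 0, 3, 1, 0],
    [0, 1, 3, 0, 3, 4, 6, 3, 6, 4],
    [0, 4, 6, 3, 6, 4, 3, 0, 3, 1],
    [1, 3, 6, 4, 0, 4, 6, 3, 1, 0],
    [1, 0, 1, 3, 6, 4, 0, 4, 6, 3],
    [3, 6, 4, 0, 4, 6, 3, 1, 0, 1],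
    [3, 1, 0, 1, 3, 6, 4, 0, 4, 6],
    [6, 4, 0, 4, 6, 3, 1, 0, 1, 3],
    [6, 3, 1, 0, 1, 3, 6, 4, 0, 4],
    [4, 0, 4, 6, 3, 1, 0, 1, 3, 6],
    [4, 6, 3, 1, 0, 1, 3, 6, 4, 0],
    [0, 4, 6, 3, 1, 0, 1, 3, 6, 4],
    [0, 1, 3, 6, 4, 0, 4, 6, 3, 1],
    [2, 6, 1, 6, 2, 0, 6, 4, 6, 0],
    [2, 0, 6, 4, 6, 0, 2, 6, 1, 6],
    [6, 1, 6, 2, 0, 6, 4, 6, 0, 2],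
    [6, 2, 0, 6, 4, 6, 0, 2, 6, 1],
    [1, 6, 2, 0, 6, 4, 6, 0, 2, 6],
    [0, 6, 4, 6, 0, 2, 6, 1, 6, 2],
    [0, 2, 6, 1, 6, 2, 0, 6, 4, 6],
    [6, 4, 6, 0, 2, 6, 1, 6, 2, 0],
    [6, 0, 2, 6, 1, 6, 2, 0, 6, 4],
    [4, 6, 0, 2, 6, 1, 6, 2, 0, 6],
    [4, 6, 4, 6, 4, 0, 6, 4, 6, 0],
    [4, 0, 6, 4, 6, 0, 4, 6, 4, 6],
    [6, 4, 6, 4, 0, 6, 4, 6, 0, 4],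
    [6, 4, 0, 6, 4, 6, 0, 4, 6, 4],
    [4, 6, 4, 0, 6, 4, 6, 0, 4, 6],
    [0, 6, 4, 6, 0, 4, 6, 4, 6, 4],
    [0, 4, 6, 4, 6, 4, 0, 6, 4, 6],
    [6, 4, 6, 0, 4, 6, 4, 6, 4, 0],
    [6, 0, 4, 6, 4, 6, 4, 0, 6, 4],
    [4, 6, 0, 4, 6, 4, 6, 4, 0, 6],
    [1, 2, 1, 2, 3, 0, 1, 3, 1, 0],
    [1, 0, 1, 3, 1, 0, 3, 2, 1, 2],
    [2, 1, 2, 3, 0, 1, 3, 1, 0, 1],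
    [2, 1, 0, 1, 3, 1, 0, 3, 2, 1],
    [1, 2, 3, 0, 1, 3, 1, 0, 1, 2],
    [1, 2, 1, 0, 1, 3, 1, 0, 3, 2],
    [2, 3, 0, 1, 3, 1, 0, 1, 2, 1],
    [2, 1, 2, 1, 0, 1, 3, 1, 0, 3],
    [3, 0, 1, 3, 1, 0, 1, 2, 1, 2],
    [3, 2, 1, 2, 1, 0, 1, 3, 1, 0],
    [0, 1, 3, 1, 0, 1, 2, 1, 2, 3],
    [0, 3, 2, 1, 2, 1, 0, 1, 3, 1],
    [1, 3, 1, 0, 1, 2, 1, 2, 3, 0],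
    [1, 0, 3, 2, 1, 2, 1, 0, 1, 3],
    [3, 1, 0, 1, 2, 1, 2, 3, 0, 1],
    [3, 1, 0, 3, 2, 1, 2, 1, 0, 1],
    [1, 0, 1, 2, 1, 2, 3, 0, 1, 3],
    [1, 3, 1, 0, 3, 2, 1, 2, 1, 0],
    [0, 1, 2, 1, 2, 3, 0, 1, 3, 1],
    [0, 1, 3, 1, 0, 3, 2, 1, 2, 1],
    [0, 1, 0, 2, 5, 0, 1, 3, 0, 1, 5],
    [0, 5, 1, 0, 3, 1, 0, 5, 2, 0, 1],
    [1, 0, 2, 5, 0, 1, 3, 0, 1, 5, 0],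
    [1, 0, 5, 1, 0, 3, 1, 0, 5, 2, 0],
    [0, 2, 5, 0, 1, 3, 0, 1, 5, 0, 1],
    [0, 1, 0, 5, 1, 0, 3, 1, 0, 5, 2],
    [2, 5, 0, 1, 3, 0, 1, 5, 0, 1, 0],
    [2, 0, 1, 0, 5, 1, 0, 3, 1, 0, 5],
    [5, 0, 1, 3, 0, 1, 5, 0, 1, 0, 2],
    [5, 2, 0, 1, 0, 5, 1, 0, 3, 1, 0],
    [0, 1, 3, 0, 1, 5, 0, 1, 0, 2, 5],
    [0, 5, 2, 0, 1, 0, 5, 1, 0, 3, 1],
    [1, 3, 0, 1, 5, 0, 1, 0, 2, 5, 0],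
    [1, 0, 5, 2, 0, 1, 0, 5, 1, 0, 3],
    [3, 0, 1, 5, 0, 1, 0, 2, 5, 0, 1],
    [0, 1, 5, 0, 1, 0, 2, 5, 0, 1, 3],
    [0, 3, 1, 0, 5, 2, 0, 1, 0, 5, 1],
    [1, 5, 0, 1, 0, 2, 5, 0, 1, 3, 0],
    [1, 0, 3, 1, 0, 5, 2, 0, 1, 0, 5],
    [5, 0, 1, 0, 2, 5, 0, 1, 3, 0, 1],
    [5, 1, 0, 3, 1, 0, 5, 2, 0, 1, 0],
    [0, 1, 2, 0, 1, 4, 1, 2, 0, 1, 4],
    [0, 4, 1, 0, 2, 1, 4, 1, 0, 2, 1],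
    [1, 2, 0, 1, 4, 1, 2, 0, 1, 4, 0],
    [1, 0, 4, 1, 0, 2, 1, 4, 1, 0, 2],
    [2, 0, 1, 4, 1, 2, 0, 1, 4, 0, 1],
    [2, 1, 0, 4, 1, 0, 2, 1, 4, 1, 0],
    [0, 1, 4, 1, 2, 0, 1, 4, 0, 1, 2],
    [0, 2, 1, 0, 4, 1, 0, 2, 1, 4, 1],
    [1, 4, 1, 2, 0, 1, 4, 0, 1, 2, 0],
    [1, 0, 2, 1, 0, 4, 1, 0, 2, 1, 4],
    [4, 1, 2, 0, 1, 4, 0, 1, 2, 0, 1],
    [4, 1, 0, 2, 1, 0, 4, 1, 0, 2, 1],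
    [1, 2, 0, 1, 4, 0, 1, 2, 0, 1, 4],
    [1, 4, 1, 0, 2, 1, 0, 4, 1, 0, 2],
    [2, 0, 1, 4, 0, 1, 2, 0, 1, 4, 1],
    [2, 1, 4, 1, 0, 2, 1, 0, 4, 1, 0],
    [0, 1, 4, 0, 1, 2, 0, 1, 4, 1, 2],
    [0, 2, 1, 4, 1, 0, 2, 1, 0, 4, 1],
    [1, 4, 0, 1, 2, 0, 1, 4, 1, 2, 0],
    [1, 0, 2, 1, 4, 1, 0, 2, 1, 0, 4],
    [4, 0, 1, 2, 0, 1, 4, 1, 2, 0, 1],
    [4, 1, 0, 2, 1, 4, 1, 0, 2, 1, 0],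
    [0, 2, 4, 2, 5, 4, 0, 5, 4, 0, 5],
    [0, 5, 0, 4, 5, 0, 4, 5, 2, 4, 2],
    [2, 4, 2, 5, 4, 0, 5, 4, 0, 5, 0],
    [2, 0, 5, 0, 4, 5, 0, 4, 5, 2, 4],
    [4, 2, 5, 4, 0, 5, 4, 0, 5, 0, 2],
    [4, 2, 0, 5, 0, 4, 5, 0, 4, 5, 2],
    [2, 5, 4, 0, 5, 4, 0, 5, 0, 2, 4],
    [2, 4, 2, 0, 5, 0, 4, 5, 0, 4, 5],
    [5, 4, 0, 5, 4, 0, 5, 0, 2, 4, 2],
    [5, 2, 4, 2, 0, 5, 0, 4, 5, 0, 4],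
    [4, 0, 5, 4, 0, 5, 0, 2, 4, 2, 5],
    [4, 5, 2, 4, 2, 0, 5, 0, 4, 5, 0],
    [0, 5, 4, 0, 5, 0, 2, 4, 2, 5, 4],
    [0, 4, 5, 2, 4, 2, 0, 5, 0, 4, 5],
    [5, 4, 0, 5, 0, 2, 4, 2, 5, 4, 0],
    [5, 0, 4, 5, 2, 4, 2, 0, 5, 0, 4],
    [4, 0, 5, 0, 2, 4, 2, 5, 4, 0, 5],
    [4, 5, 0, 4, 5, 2, 4, 2, 0, 5, 0],
    [0, 5, 0, 2, 4, 2, 5, 4, 0, 5, 4],
    [0, 4, 5, 0, 4, 5, 2, 4, 2, 0, 5],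
    [5, 0, 2, 4, 2, 5, 4, 0, 5, 4, 0],
    [5, 0, 4, 5, 0, 4, 5, 2, 4, 2, 0],
    [0, 1, 0, 1, 2, 6, 0, 6, 3, 2, 3],
    [0, 3, 2, 3, 6, 0, 6, 2, 1, 0, 1],
    [1, 0, 1, 2, 6, 0, 6, 3, 2, 3, 0],
    [1, 0, 3, 2, 3, 6, 0, 6, 2, 1, 0],
    [0, 1, 2, 6, 0, 6, 3, 2, 3, 0, 1],
    [0, 1, 0, 3, 2, 3, 6, 0, 6, 2, 1],
    [1, 2, 6, 0, 6, 3, 2, 3, 0, 1, 0],
    [1, 0, 1, 0, 3, 2, 3, 6, 0, 6, 2],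
    [2, 6, 0, 6, 3, 2, 3, 0, 1, 0, 1],
    [2, 1, 0, 1, 0, 3, 2, 3, 6, 0, 6],
    [6, 0, 6, 3, 2, 3, 0, 1, 0, 1, 2],
    [6, 2, 1, 0, 1, 0, 3, 2, 3, 6, 0],
    [0, 6, 3, 2, 3, 0, 1, 0, 1, 2, 6],
    [0, 6, 2, 1, 0, 1, 0, 3, 2, 3, 6],
    [6, 3, 2, 3, 0, 1, 0, 1, 2, 6, 0],
    [6, 0, 6, 2, 1, 0, 1, 0, 3, 2, 3],
    [3, 2, 3, 0, 1, 0, 1, 2, 6, 0, 6],
    [3, 6, 0, 6, 2, 1, 0, 1, 0, 3, 2],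
    [2, 3, 0, 1, 0, 1, 2, 6, 0, 6, 3],
    [2, 3, 6, 0, 6, 2, 1, 0, 1, 0, 3],
    [3, 0, 1, 0, 1, 2, 6, 0, 6, 3, 2],
    [3, 2, 3, 6, 0, 6, 2, 1, 0, 1, 0],
    [0, 3, 2, 4, 6, 2, 1, 6, 1, 2, 6],
    [0, 6, 2, 1, 6, 1, 2, 6, 4, 2, 3],
    [3, 2, 4, 6, 2, 1, 6, 1, 2, 6, 0],
    [3, 0, 6, 2, 1, 6, 1, 2, 6, 4, 2],
    [2, 4, 6, 2, 1, 6, 1, 2, 6, 0, 3],
    [2, 3, 0, 6, 2, 1, 6, 1, 2, 6, 4],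
    [4, 6, 2, 1, 6, 1, 2, 6, 0, 3, 2],
    [4, 2, 3, 0, 6, 2, 1, 6, 1, 2, 6],
    [6, 2, 1, 6, 1, 2, 6, 0, 3, 2, 4],
    [6, 4, 2, 3, 0, 6, 2, 1, 6, 1, 2],
    [2, 1, 6, 1, 2, 6, 0, 3, 2, 4, 6],
    [2, 6, 4, 2, 3, 0, 6, 2, 1, 6, 1],
    [1, 6, 1, 2, 6, 0, 3, 2, 4, 6, 2],
    [1, 2, 6, 4, 2, 3, 0, 6, 2, 1, 6],
    [6, 1, 2, 6, 0, 3, 2, 4, 6, 2, 1],
    [6, 1, 2, 6, 4, 2, 3, 0, 6, 2, 1],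
    [1, 2, 6, 0, 3, 2, 4, 6, 2, 1, 6],
    [1, 6, 1, 2, 6, 4, 2, 3, 0, 6, 2],
    [2, 6, 0, 3, 2, 4, 6, 2, 1, 6, 1],
    [2, 1, 6, 1, 2, 6, 4, 2, 3, 0, 6],
    [6, 0, 3, 2, 4, 6, 2, 1, 6, 1, 2],
    [6, 2, 1, 6, 1, 2, 6, 4, 2, 3, 0],
    [0, 1, 0, 2, 1, 7, 5, 1, 5, 7, 2],
    [0, 2, 7, 5, 1, 5, 7, 1, 2, 0, 1],
    [1, 0, 2, 1, 7, 5, 1, 5, 7, 2, 0],
    [1, 0, 2, 7, 5, 1, 5, 7, 1, 2, 0],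
    [0, 2, 1, 7, 5, 1, 5, 7, 2, 0, 1],
    [0, 1, 0, 2, 7, 5, 1, 5, 7, 1, 2],
    [2, 1, 7, 5, 1, 5, 7, 2, 0, 1, 0],
    [2, 0, 1, 0, 2, 7, 5, 1, 5, 7, 1],
    [1, 7, 5, 1, 5, 7, 2, 0, 1, 0, 2],
    [1, 2, 0, 1, 0, 2, 7, 5, 1, 5, 7],
    [7, 5, 1, 5, 7, 2, 0, 1, 0, 2, 1],
    [7, 1, 2, 0, 1, 0, 2, 7, 5, 1, 5],
    [5, 1, 5, 7, 2, 0, 1, 0, 2, 1, 7],
    [5, 7, 1, 2, 0, 1, 0, 2, 7, 5, 1],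
    [1, 5, 7, 2, 0, 1, 0, 2, 1, 7, 5],
    [1, 5, 7, 1, 2, 0, 1, 0, 2, 7, 5],
    [5, 7, 2, 0, 1, 0, 2, 1, 7, 5, 1],
    [5, 1, 5, 7, 1, 2, 0, 1, 0, 2, 7],
    [7, 2, 0, 1, 0, 2, 1, 7, 5, 1, 5],
    [7, 5, 1, 5, 7, 1, 2, 0, 1, 0, 2],
    [2, 0, 1, 0, 2, 1, 7, 5, 1, 5, 7],
    [2, 7, 5, 1, 5, 7, 1, 2, 0, 1, 0],
    [0, 1, 2, 1, 0, 3, 7, 0, 5, 0, 7],
    [0, 7, 0, 5, 0, 7, 3, 0, 1, 2, 1],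
    [1, 2, 1, 0, 3, 7, 0, 5, 0, 7, 0],
    [1, 0, 7, 0, 5, 0, 7, 3, 0, 1, 2],
    [2, 1, 0, 3, 7, 0, 5, 0, 7, 0, 1],
    [2, 1, 0, 7, 0, 5, 0, 7, 3, 0, 1],
    [1, 0, 3, 7, 0, 5, 0, 7, 0, 1, 2],
    [1, 2, 1, 0, 7, 0, 5, 0, 7, 3, 0],
    [0, 3, 7, 0, 5, 0, 7, 0, 1, 2, 1],
    [0, 1, 2, 1, 0, 7, 0, 5, 0, 7, 3],
    [3, 7, 0, 5, 0, 7, 0, 1, 2, 1, 0],
    [3, 0, 1, 2, 1, 0, 7, 0, 5, 0, 7],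
    [7, 0, 5, 0, 7, 0, 1, 2, 1, 0, 3],
    [7, 3, 0, 1, 2, 1, 0, 7, 0, 5, 0],
    [0, 5, 0, 7, 0, 1, 2, 1, 0, 3, 7],
    [0, 7, 3, 0, 1, 2, 1, 0, 7, 0, 5],
    [5, 0, 7, 0, 1, 2, 1, 0, 3, 7, 0],
    [5, 0, 7, 3, 0, 1, 2, 1, 0, 7, 0],
    [0, 7, 0, 1, 2, 1, 0, 3, 7, 0, 5],
    [0, 5, 0, 7, 3, 0, 1, 2, 1, 0, 7],
    [7, 0, 1, 2, 1, 0, 3, 7, 0, 5, 0],
    [7, 0, 5, 0, 7, 3, 0, 1, 2, 1, 0],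
    [1, 2, 7, 5, 7, 2, 7, 5, 3, 2, 7],
    [1, 7, 2, 3, 5, 7, 2, 7, 5, 7, 2],
    [2, 7, 5, 7, 2, 7, 5, 3, 2, 7, 1],
    [2, 1, 7, 2, 3, 5, 7, 2, 7, 5, 7],
    [7, 5, 7, 2, 7, 5, 3, 2, 7, 1, 2],
    [7, 2, 1, 7, 2, 3, 5, 7, 2, 7, 5],
    [5, 7, 2, 7, 5, 3, 2, 7, 1, 2, 7],
    [5, 7, 2, 1, 7, 2, 3, 5, 7, 2, 7],
    [7, 2, 7, 5, 3, 2, 7, 1, 2, 7, 5],
    [7, 5, 7, 2, 1, 7, 2, 3, 5, 7, 2],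
    [2, 7, 5, 3, 2, 7, 1, 2, 7, 5, 7],
    [2, 7, 5, 7, 2, 1, 7, 2, 3, 5, 7],
    [7, 5, 3, 2, 7, 1, 2, 7, 5, 7, 2],
    [7, 2, 7, 5, 7, 2, 1, 7, 2, 3, 5],
    [5, 3, 2, 7, 1, 2, 7, 5, 7, 2, 7],
    [5, 7, 2, 7, 5, 7, 2, 1, 7, 2, 3],
    [3, 2, 7, 1, 2, 7, 5, 7, 2, 7, 5],
    [3, 5, 7, 2, 7, 5, 7, 2, 1, 7, 2],
    [2, 7, 1, 2, 7, 5, 7, 2, 7, 5, 3],
    [2, 3, 5, 7, 2, 7, 5, 7, 2, 1, 7],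
    [7, 1, 2, 7, 5, 7, 2, 7, 5, 3, 2],
    [7, 2, 3, 5, 7, 2, 7, 5, 7, 2, 1],
    [2, 0, 7, 0, 2, 7, 5, 7, 5, 1, 7, 1],
    [2, 1, 7, 1, 5, 7, 5, 7, 2, 0, 7, 0],
    [0, 7, 0, 2, 7, 5, 7, 5, 1, 7, 1, 2],
    [0, 2, 1, 7, 1, 5, 7, 5, 7, 2, 0, 7],
    [7, 0, 2, 7, 5, 7, 5, 1, 7, 1, 2, 0],
    [7, 0, 2, 1, 7, 1, 5, 7, 5, 7, 2, 0],
    [0, 2, 7, 5, 7, 5, 1, 7, 1, 2, 0, 7],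
    [0, 7, 0, 2, 1, 7, 1, 5, 7, 5, 7, 2],
    [2, 7, 5, 7, 5, 1, 7, 1, 2, 0, 7, 0],
    [2, 0, 7, 0, 2, 1, 7, 1, 5, 7, 5, 7],
    [7, 5, 7, 5, 1, 7, 1, 2, 0, 7, 0, 2],
    [7, 2, 0, 7, 0, 2, 1, 7, 1, 5, 7, 5],
    [5, 7, 5, 1, 7, 1, 2, 0, 7, 0, 2, 7],
    [5, 7, 2, 0, 7, 0, 2, 1, 7, 1, 5, 7],
    [7, 5, 1, 7, 1, 2, 0, 7, 0, 2, 7, 5],
    [7, 5, 7, 2, 0, 7, 0, 2, 1, 7, 1, 5],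
    [5, 1, 7, 1, 2, 0, 7, 0, 2, 7, 5, 7],
    [5, 7, 5, 7, 2, 0, 7, 0, 2, 1, 7, 1],
    [1, 7, 1, 2, 0, 7, 0, 2, 7, 5, 7, 5],
    [1, 5, 7, 5, 7, 2, 0, 7, 0, 2, 1, 7],
    [7, 1, 2, 0, 7, 0, 2, 7, 5, 7, 5, 1],
    [7, 1, 5, 7, 5, 7, 2, 0, 7, 0, 2, 1],
    [1, 2, 0, 7, 0, 2, 7, 5, 7, 5, 1, 7],
    [1, 7, 1, 5, 7, 5, 7, 2, 0, 7, 0, 2],
    [2, 4, 6, 4, 3, 5, 7, 5, 3, 2, 1, 0],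
    [2, 0, 1, 2, 3, 5, 7, 5, 3, 4, 6, 4],
    [4, 6, 4, 3, 5, 7, 5, 3, 2, 1, 0, 2],
    [4, 2, 0, 1, 2, 3, 5, 7, 5, 3, 4, 6],
    [6, 4, 3, 5, 7, 5, 3, 2, 1, 0, 2, 4],
    [6, 4, 2, 0, 1, 2, 3, 5, 7, 5, 3, 4],
    [4, 3, 5, 7, 5, 3, 2, 1, 0, 2, 4, 6],
    [4, 6, 4, 2, 0, 1, 2, 3, 5, 7, 5, 3],
    [3, 5, 7, 5, 3, 2, 1, 0, 2, 4, 6, 4],
    [3, 4, 6, 4, 2, 0, 1, 2, 3, 5, 7, 5],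
    [5, 7, 5, 3, 2, 1, 0, 2, 4, 6, 4, 3],
    [5, 3, 4, 6, 4, 2, 0, 1, 2, 3, 5, 7],
    [7, 5, 3, 2, 1, 0, 2, 4, 6, 4, 3, 5],
    [7, 5, 3, 4, 6, 4, 2, 0, 1, 2, 3, 5],
    [5, 3, 2, 1, 0, 2, 4, 6, 4, 3, 5, 7],
    [5, 7, 5, 3, 4, 6, 4, 2, 0, 1, 2, 3],
    [3, 2, 1, 0, 2, 4, 6, 4, 3, 5, 7, 5],
    [3, 5, 7, 5, 3, 4, 6, 4, 2, 0, 1, 2],
    [2, 1, 0, 2, 4, 6, 4, 3, 5, 7, 5, 3],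
    [2, 3, 5, 7, 5, 3, 4, 6, 4, 2, 0, 1],
    [1, 0, 2, 4, 6, 4, 3, 5, 7, 5, 3, 2],
    [1, 2, 3, 5, 7, 5, 3, 4, 6, 4, 2, 0],
    [0, 2, 4, 6, 4, 3, 5, 7, 5, 3, 2, 1],
    [0, 1, 2, 3, 5, 7, 5, 3, 4, 6, 4, 2],
    [0, 0],
    [1, 1],
    [2, 2],
    [3, 3],
    [4, 4],
    [5, 5],
    [6, 6],
    [7, 7]]

/-- The subgroup words. -/
def subWords : List (List Nat) := [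
    [0],
    [1],
    [2],
    [3],
    [5],
    [7]]

/-- The certificate. -/
def cert : StepCert :=
  ⟨relWords, subWords, [0, 1, 2, 3, 4, 5, 6, 7], tabF, tabC, tabZ, tabP, 2078, 7054, 1771, 8⟩

end Cfsg.Lib.HeldType.Amalgam.M240
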